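import Groth.Agent.Lib.SolvSpec15.Pts
import Groth.Agent.S20008
import Groth.Agent.S3034
import Groth.Agent.Lib.TorPts21.Upper
import Groth.Agent.Lib.TorPts21.Sub
import Groth.Agent.Lib.AbelGrp20.Main

/-!
Connected solvable groups in characteristic zero are special.
-/

set_option autoImplicit false
set_option linter.style.haveILetI false
set_option backward.isDefEq.respectTransparency.types false

universe u

open CategoryTheory CategoryTheory.Limits MonoidalCategory CartesianMonoidalCategory MonObj AlgebraicGeometry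
open Groth.Agent.TorPts21

noncomputable section

namespace Groth.Agent.SolvSpec15

variable {k : Type u} [Field k]

theorem isClosedImmersion_eta (Q : Over (Spec (CommRingCat.of k))) [GrpObj Q] [IsSeparated Q.hom] :
    IsClosedImmersion η[Q].left := by
  haveI : IsClosedImmersion (η[Q].left ≫ Q.hom) := by
    rw [Over.w η[Q]]; exact (inferInstance : IsClosedImmersion (𝟙 (Spec (CommRingCat.of k))))
  exact IsClosedImmersion.of_comp η[Q].left Q.hom

theorem isClosed_range {G H : Over (Spec (CommRingCat.of k))} [GrpObj G] [GrpObj H] [LocallyOfFiniteType G.hom]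
    [LocallyOfFiniteType H.hom] (u : G ⟶ H) [IsMonHom u] [QuasiCompact u.left] :
    IsClosed (Set.range u.left) := by
  obtain ⟨C, _, p, i, -, -, hpi, -, hp, -, hi⟩ := Groth.Agent.S3034.result k G H u (by
    let f : pullback u.left (η[H] : _ ⟶ H).left ⟶ Spec (CommRingCat.of k) := pullback.snd _ _
    exact (inferInstance : Flat f))
  have e : Set.range u.left = Set.range i.left := by
    rw [← hpi]
    show Set.range (fun x => i.left (p.left x)) = _
    exact hp.surj.range_comp _
  rw [e]
  exact i.left.isClosedEmbedding.isClosed_range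

variable [IsAlgClosed k] [CharZero k]

/-- A group surjecting onto a special group with special kernel is special. -/
theorem special_of_surjective {H Q : Over (Spec (CommRingCat.of k))} [GrpObj H] [GrpObj Q] [IsAffine H.left]
    [LocallyOfFiniteType H.hom] [IsAffine Q.left] [LocallyOfFiniteType Q.hom] (f : H ⟶ Q) [IsMonHom f]
    [Surjective f.left] (hQ : Special k Q)
    (hN : ∀ (N : Over (Spec (CommRingCat.of k))) [GrpObj N] (i : N ⟶ H) [IsMonHom i] [IsClosedImmersion i.left]
      [IsAffine N.left] [LocallyOfFiniteType N.hom], i ≫ f = 1 → Special k N) : Special k H := by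
  let i : pullback f η[Q] ⟶ H := pullback.fst f η[Q]
  have sq : IsPullback i (toUnit _) f η[Q] := by
    convert IsPullback.of_hasPullback f η[Q] using 1
    exact toUnit_unique _ _
  obtain ⟨_, hi⟩ := GrpDim20.exists_grpObj_kernel f i sq
  haveI : IsSeparated Q.hom := inferInstance
  haveI := isClosedImmersion_eta Q
  haveI : IsClosedImmersion i.left :=
    MorphismProperty.of_isPullback (P := @IsClosedImmersion) (sq.map (Over.forget _)).flip
      (inferInstance : IsClosedImmersion η[Q].left)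
  haveI : IsAffine (pullback f η[Q]).left := isAffine_of_isAffineHom i.left
  haveI : LocallyOfFiniteType (pullback f η[Q]).hom := by rw [← Over.w i]; infer_instance
  have hi1 : i ≫ f = 1 := by rw [sq.w, Hom.one_def]
  have hnorm : AlgGrp.IsNormalHom i := fun T g m => by
    have h1 : (g * (m ≫ i) * g⁻¹) ≫ f = toUnit T ≫ η[Q] := by
      rw [MonObj.mul_comp, MonObj.mul_comp, GrpObj.inv_comp, Category.assoc, hi1, MonObj.comp_one,
        _root_.mul_one, mul_inv_cancel, Hom.one_def]
    exact ⟨sq.lift _ _ h1, (sq.lift_fst _ _ _).symm⟩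
  intro X Y a φ hcart hloc
  exact Groth.Agent.S20008.result k H (pullback f η[Q]) Q i hnorm f sq (hN _ i hi1) hQ X Y a φ hcart hloc

/-- Two invertible elements of the ground field as a point. -/
def gaPt (B : Type u) [CommRing B] [Algebra k B] (b : B) :
    VecGrp.pt k B ⟶ Red.Ga (Spec (CommRingCat.of k)) :=
  GaPts.ptOfFn ((Scheme.ΓSpecIso (CommRingCat.of B)).inv b)

theorem ptMap_gaPt {B B' : Type u} [CommRing B] [Algebra k B] [CommRing B'] [Algebra k B'] (φ : B →ₐ[k] B') (b : B) :
    VecGrp.ptMap φ ≫ gaPt B b = gaPt B' (φ b) := by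
  refine (GaPts.ptOfFn_comp _ _).trans (congrArg GaPts.ptOfFn ?_)
  exact (CategoryTheory.congr_fun (Scheme.ΓSpecIso_inv_naturality (CommRingCat.ofHom φ.toRingHom)) b).symm

theorem exists_gaPt (y : VecGrp.pt k k ⟶ Red.Ga (Spec (CommRingCat.of k))) : ∃ c : k, gaPt (k := k) k c = y := by
  obtain ⟨c, hc⟩ : ∃ c, (Scheme.ΓSpecIso (CommRingCat.of k)).inv c = Red.gaFn y :=
    (Scheme.ΓSpecIso (CommRingCat.of k)).symm.commRingCatIsoToRingEquiv.surjective _
  exact ⟨c, GaPts.gaFn_injective ((GaPts.gaFn_ptOfFn _).trans hc)⟩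

instance : IsAffine (Red.Ga (Spec (CommRingCat.of k))).left :=
  haveI : IsAffineHom (Red.Ga (Spec (CommRingCat.of k))).hom :=
    MorphismProperty.pullback_snd (P := @IsAffineHom) _ _ (inferInstanceAs (IsAffineHom (Spec.map _)))
  isAffine_of_isAffineHom (Red.Ga (Spec (CommRingCat.of k))).hom

instance : LocallyOfFiniteType (Red.Ga (Spec (CommRingCat.of k))).hom :=
  MorphismProperty.pullback_snd (P := @LocallyOfFiniteType) _ _ (by
    show LocallyOfFiniteType (Spec.map (CommRingCat.ofHom (algebraMap (ULift.{u} ℤ) GaPts.Coord.{u})))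
    rw [HasRingHomProperty.Spec_iff (P := @LocallyOfFiniteType)]
    exact RingHom.finiteType_algebraMap.2 (Algebra.FiniteType.equiv inferInstance
      (SymmetricAlgebra.equivMvPolynomial (Module.Basis.singleton PUnit.{u+1} (ULift.{u} ℤ))).symm))

/-- A nontrivial homomorphism to the additive group is surjective in characteristic zero. -/
theorem surjective_of_ne_zero {H : Over (Spec (CommRingCat.of k))} [GrpObj H] [IsAffine H.left]
    [LocallyOfFiniteType H.hom] (F : Γ(H.left, ⊤)) (hF : F ≠ 0)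
    [IsMonHom (GaPts.ptOfFn F : H ⟶ Red.Ga (Spec (CommRingCat.of k)))] :
    Surjective (GaPts.ptOfFn F : H ⟶ Red.Ga (Spec (CommRingCat.of k))).left := by
  let f : H ⟶ Red.Ga (Spec (CommRingCat.of k)) := GaPts.ptOfFn F
  haveI := Groth.Agent.Cartier.smooth_of_charZero (K := k) H
  obtain ⟨x, hx⟩ : ∃ x : VecGrp.pt k k ⟶ H, InvRing21.val x F ≠ 0 := by
    by_contra h
    push Not at h
    exact hF (InvRing21.ext_val fun x => by rw [h x, map_zero])
  have hval : ∀ y : VecGrp.pt k k ⟶ H, y ≫ f = gaPt (k := k) k (InvRing21.val y F) := fun y => by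
    refine (GaPts.ptOfFn_comp _ _).trans (congrArg GaPts.ptOfFn ?_)
    exact ((Scheme.ΓSpecIso (CommRingCat.of k)).hom_inv_id_apply _).symm
  have hadd : ∀ b c : k, gaPt (k := k) k b * gaPt (k := k) k c = gaPt (k := k) k (b + c) := fun b c => by
    refine (GaPts.ptOfFn_add _ _).symm.trans (congrArg GaPts.ptOfFn ?_)
    exact (map_add (Scheme.ΓSpecIso (CommRingCat.of k)).inv.hom b c).symm
  have hmult : ∀ m : ℕ, ∃ y : VecGrp.pt k k ⟶ H, y ≫ f = gaPt (k := k) k ((m + 1 : ℕ) * InvRing21.val x F) := fun m => by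
    induction m with
    | zero => exact ⟨x, by rw [hval]; simp⟩
    | succ m ih =>
      obtain ⟨y, hy⟩ := ih
      exact ⟨y * x, by rw [MonObj.mul_comp, hy, hval, hadd]; congr 1; push_cast; ring⟩
  haveI : QuasiCompact f.left := inferInstance
  have hcl := isClosed_range f
  refine ⟨fun z => ?_⟩
  by_contra hz
  obtain ⟨_, ⟨h, rfl⟩, hzh, hh⟩ := TopologicalSpace.Opens.isBasis_iff_nbhd.1
    (isBasis_basicOpen (Red.Ga (Spec (CommRingCat.of k))).left)
    (show z ∈ (⟨(Set.range f.left)ᶜ, hcl.isOpen_compl⟩ : TopologicalSpace.Opens _) from hz)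
  obtain ⟨y, hy⟩ := BorelFix21.exists_pt_mem
    (Z := ((Red.Ga (Spec (CommRingCat.of k))).left.basicOpen h : Set _))
    ((Red.Ga (Spec (CommRingCat.of k))).left.basicOpen h).isOpen.isLocallyClosed ⟨z, hzh⟩
  refine (BorelFix21.val_ne_zero_iff y h).2 hy ?_
  obtain ⟨c, rfl⟩ := exists_gaPt y
  let P : Polynomial k := InvRing21.val (gaPt (k := k) (Polynomial k) Polynomial.X) h
  have hP : ∀ t : k, P.eval t = InvRing21.val (gaPt (k := k) k t) h := fun t => by
    have := InvRing21.val_ptMap (Polynomial.aeval t) (gaPt (k := k) (Polynomial k) Polynomial.X)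
    rw [ptMap_gaPt, Polynomial.aeval_X] at this
    rw [this]
    exact (Polynomial.coe_aeval_eq_eval t).symm ▸ rfl
  have hP0 : P = 0 := by
    refine Polynomial.eq_zero_of_infinite_isRoot P (Set.Infinite.mono ?_ (Set.infinite_range_of_injective
      (f := fun m : ℕ => ((m + 1 : ℕ) : k) * InvRing21.val x F) fun m m' e => by
        have := mul_right_cancel₀ hx e
        exact_mod_cast Nat.succ.inj (Nat.cast_injective this)))
    rintro _ ⟨m, rfl⟩
    obtain ⟨y, hy⟩ := hmult m
    show P.eval _ = 0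
    rw [hP, ← hy]
    by_contra hne
    exact hh ((BorelFix21.val_ne_zero_iff _ h).1 hne) ⟨InvRing21.img y, rfl⟩
  rw [← hP, hP0, Polynomial.eval_zero]

section Unitriangular

variable {n : ℕ}

/-- The entry order on positions above the diagonal. -/
def rk (a b : Fin n) : ℕ := ((b : ℕ) - a) * n + a

theorem special_of_unitriangular : ∀ (j m : ℕ), (n + 1) * (n + 1) ≤ m + j →
    ∀ (H : Over (Spec (CommRingCat.of k))) [GrpObj H] [IsAffine H.left] [LocallyOfFiniteType H.hom]
      (ρ : H ⟶ GLs k n) [IsMonHom ρ] [IsClosedImmersion ρ.left],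
      (∀ a b : Fin n, ((b : ℕ) ≤ a ∨ rk a b < m) → DiagGL.mat ρ a b = (1 : Matrix (Fin n) (Fin n) _) a b) →
      Special k H := by
  intro j
  induction j with
  | zero =>
    intro m hm H _ _ _ ρ _ _ hc
    have h1 : DiagGL.mat ρ = 1 := Matrix.ext fun a b => hc a b (Or.inr (by
      have ha := a.isLt
      have hb := b.isLt
      calc rk a b ≤ n * n + n := Nat.add_le_add (Nat.mul_le_mul_right n (by omega)) ha.le
        _ < (n + 1) * (n + 1) := by ring_nf; omega
        _ ≤ m := hm))
    haveI : Mono ρ := (Over.forget _).mono_of_mono_map (show Mono ρ.left from inferInstance)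
    refine special_of_subsingleton H fun T x => (cancel_mono ρ).1 (DiagGL.mat_injective ?_)
    have e1 : DiagGL.mat ((1 : T ⟶ H) ≫ ρ) = 1 := by
      rw [MonObj.one_comp]
      exact (DiagGL.matsGLn k n).one T
    rw [e1, DiagGL.mat_comp, h1, Matrix.map_one _ (map_zero _) (map_one _)]
  | succ j ih =>
    intro m hm H _ _ _ ρ _ _ hc
    by_cases hpos : ∃ a b : Fin n, (a : ℕ) < b ∧ rk a b = m
    swap
    · refine ih (m + 1) (by omega) H ρ fun a b hab => ?_
      by_cases h : (b : ℕ) ≤ a
      · exact hc a b (Or.inl h)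
      · refine hc a b (Or.inr ?_)
        rcases hab with h' | h'
        · exact absurd h' h
        · rcases Nat.lt_succ_iff_lt_or_eq.1 h' with h'' | h''
          · exact h''
          · exact absurd ⟨a, b, Nat.lt_of_not_le h, h''⟩ hpos
    obtain ⟨a, b, hab, hm'⟩ := hpos
    have huniq : ∀ a' b' : Fin n, (a' : ℕ) < b' → rk a' b' = m → a' = a ∧ b' = b := fun a' b' h h' => by
      rw [← hm'] at h'
      have h1 : ((rk a' b') % n) = a' := by rw [rk, Nat.mul_comm, Nat.mul_add_mod, Nat.mod_eq_of_lt a'.isLt]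
      have h2 : ((rk a b) % n) = a := by rw [rk, Nat.mul_comm, Nat.mul_add_mod, Nat.mod_eq_of_lt a.isLt]
      have ha : a' = a := Fin.ext (by rw [← h1, h', h2])
      subst ha
      refine ⟨rfl, Fin.ext ?_⟩
      simp only [rk] at h'
      have := Nat.eq_of_mul_eq_mul_right (show 0 < n from Nat.lt_of_le_of_lt (Nat.zero_le _) a'.isLt)
        (Nat.add_right_cancel h')
      omega
    have hnext : ∀ {H' : Over (Spec (CommRingCat.of k))} (ρ' : H' ⟶ GLs k n),
        (∀ c d : Fin n, ((d : ℕ) ≤ c ∨ rk c d < m) → DiagGL.mat ρ' c d = (1 : Matrix (Fin n) (Fin n) _) c d) →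
        DiagGL.mat ρ' a b = 0 → ∀ c d : Fin n, ((d : ℕ) ≤ c ∨ rk c d < m + 1) →
          DiagGL.mat ρ' c d = (1 : Matrix (Fin n) (Fin n) _) c d := fun {H'} ρ' h h0 c d hcd => by
      by_cases hdc : (d : ℕ) ≤ c
      · exact h c d (Or.inl hdc)
      rcases hcd with h' | h'
      · exact absurd h' hdc
      rcases Nat.lt_succ_iff_lt_or_eq.1 h' with h'' | h''
      · exact h c d (Or.inr h'')
      · obtain ⟨rfl, rfl⟩ := huniq c d (Nat.lt_of_not_le hdc) h''
        rw [h0, Matrix.one_apply_ne]
        intro e; exact hdc (e ▸ le_rfl)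
    by_cases hF : DiagGL.mat ρ a b = 0
    · exact ih (m + 1) (by omega) H ρ (hnext ρ hc hF)
    have hct : ∀ {T : Over (Spec (CommRingCat.of k))} (x : T ⟶ H) (c d : Fin n), ((d : ℕ) ≤ c ∨ rk c d < m) →
        DiagGL.mat (x ≫ ρ) c d = (1 : Matrix (Fin n) (Fin n) _) c d := fun x c d h => by
      rw [DiagGL.mat_comp, Matrix.map_apply, hc c d h, Matrix.one_apply, Matrix.one_apply, apply_ite x.left.appTop,
        map_one, map_zero]
    haveI : IsMonHom (GaPts.ptOfFn (DiagGL.mat ρ a b) : H ⟶ Red.Ga (Spec (CommRingCat.of k))) := by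
      refine TorsorSch25.isMonHom_of_points (GaPts.ptOfFn (DiagGL.mat ρ a b) : H ⟶ Red.Ga (Spec (CommRingCat.of k))) fun T x y => ?_
      rw [GaPts.ptOfFn_comp, GaPts.ptOfFn_comp, GaPts.ptOfFn_comp, ← GaPts.ptOfFn_add]
      congr 1
      have hne : a ≠ b := fun e => by subst e; omega
      show ((DiagGL.mat ρ).map (x * y).left.appTop) a b =
        ((DiagGL.mat ρ).map x.left.appTop) a b + ((DiagGL.mat ρ).map y.left.appTop) a b
      rw [← DiagGL.mat_comp, ← DiagGL.mat_comp, ← DiagGL.mat_comp, MonObj.mul_comp, DiagGL.mat_mul, Matrix.mul_apply,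
        Finset.sum_eq_add a b hne (fun c _ hcab => ?_) (by simp) (by simp), hct x a a (Or.inl le_rfl),
        hct y b b (Or.inl le_rfl), Matrix.one_apply_eq, Matrix.one_apply_eq, _root_.one_mul, _root_.mul_one,
        add_comm]
      obtain ⟨hca, hcb⟩ := hcab
      have hca' : (c : ℕ) ≠ a := fun e => hca (Fin.ext e)
      have hcb' : (c : ℕ) ≠ b := fun e => hcb (Fin.ext e)
      by_cases h1 : (c : ℕ) < a
      · rw [hct x a c (Or.inl h1.le), Matrix.one_apply_ne (Ne.symm hca), zero_mul]
      by_cases h2 : (b : ℕ) < c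
      · rw [hct y c b (Or.inl h2.le), Matrix.one_apply_ne hcb, mul_zero]
      have hrk : rk a c < m := by
        rw [← hm']
        refine Nat.add_lt_add_right (Nat.mul_lt_mul_of_pos_right ?_ ?_) _ <;> omega
      rw [hct x a c (Or.inr hrk), Matrix.one_apply_ne (Ne.symm hca), zero_mul]
    haveI := surjective_of_ne_zero (DiagGL.mat ρ a b) hF
    refine special_of_surjective (GaPts.ptOfFn (DiagGL.mat ρ a b) : H ⟶ Red.Ga (Spec (CommRingCat.of k))) special_Ga
      fun N _ i _ _ _ _ hi => ?_
    haveI : IsClosedImmersion (i ≫ ρ).left := by rw [Over.comp_left]; infer_instance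
    refine ih (m + 1) (by omega) N (i ≫ ρ) (hnext (i ≫ ρ) (fun c d h => hct i c d h) ?_)
    rw [DiagGL.mat_comp, Matrix.map_apply]
    have := congrArg (fun z => Red.gaFn z) hi
    simp only [GaPts.gaFn_comp, GaPts.gaFn_ptOfFn, GaPts.gaFn_one] at this
    exact this

end Unitriangular

theorem special_of_solvable (G : Over (Spec (CommRingCat.of k))) [GrpObj G] [IsAffine G.left]
    [Smooth G.hom] [ConnectedSpace G.left] (hG : Red.IsSolvableGrp G) : Special k G := by
  obtain ⟨n, r, hr, hrc, hup⟩ := exists_upper_embedding (𝟙 G) hG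
  haveI := hr
  haveI := hrc
  have hzero : ∀ a b : Fin n, (b : ℕ) < a → DiagGL.mat r a b = 0 := fun a b hba => by
    refine InvRing21.ext_val fun x => ?_
    have h := hup ⟨x, rfl⟩ a b (by simpa using hba)
    rw [mtx_apply, coe_mtxFn] at h
    rw [map_zero]
    refine Eq.trans ?_ h
    simp only [mtxMat, Category.id_comp, DiagGL.mat_comp, Matrix.map_apply]
    rfl
  have hzt : ∀ {T : Over (Spec (CommRingCat.of k))} (x : T ⟶ G) (a b : Fin n), (b : ℕ) < a →
      DiagGL.mat (x ≫ r) a b = 0 := fun x a b h => by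
    rw [DiagGL.mat_comp, Matrix.map_apply, hzero a b h, map_zero]
  have hdiag : ∀ {T : Over (Spec (CommRingCat.of k))} (x y : T ⟶ G) (a : Fin n),
      DiagGL.mat ((x * y) ≫ r) a a = DiagGL.mat (x ≫ r) a a * DiagGL.mat (y ≫ r) a a := fun x y a => by
    rw [MonObj.mul_comp, DiagGL.mat_mul, Matrix.mul_apply, Finset.sum_eq_single a (fun c _ hc => ?_) (by simp)]
    rcases lt_or_gt_of_ne (fun e => hc (Fin.ext e) : (c : ℕ) ≠ a) with h | h
    · rw [hzt x a c h, zero_mul]
    · rw [hzt y c a h, mul_zero]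
  have hone : ∀ (T : Over (Spec (CommRingCat.of k))) (a : Fin n), DiagGL.mat ((1 : T ⟶ G) ≫ r) a a = 1 :=
    fun T a => by
      have e : DiagGL.mat (1 : T ⟶ GLs k n) = 1 := (DiagGL.matsGLn k n).one T
      rw [MonObj.one_comp, e, Matrix.one_apply_eq]
  obtain ⟨d, hd⟩ := DiagGL.exists_mat_eq (T := G) (R := k)
    (M := Matrix.diagonal fun a => DiagGL.mat r a a) (IsUnit.of_mul_eq_one
      (Matrix.diagonal fun a => DiagGL.mat ((𝟙 G)⁻¹ ≫ r) a a) (by
        rw [Matrix.diagonal_mul_diagonal, ← Matrix.diagonal_one]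
        congr 1
        funext a
        have h := hdiag (𝟙 G) (𝟙 G)⁻¹ a
        rw [mul_inv_cancel, hone, Category.id_comp] at h
        exact h.symm))
  have hdT : ∀ {T : Over (Spec (CommRingCat.of k))} (x : T ⟶ G),
      DiagGL.mat (x ≫ d) = Matrix.diagonal fun a => DiagGL.mat (x ≫ r) a a := fun x => by
    rw [DiagGL.mat_comp, hd, Matrix.diagonal_map (map_zero _)]
    congr 1
  haveI : IsMonHom d := TorsorSch25.isMonHom_of_points d fun T x y => DiagGL.mat_injective (by
    rw [DiagGL.mat_mul, hdT, hdT, hdT, Matrix.diagonal_mul_diagonal]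
    exact congrArg Matrix.diagonal (funext (hdiag x y)))
  haveI : LocallyOfFiniteType (GLs k n).hom := by
    haveI := InvRing21.smooth_sp_GLn k n
    infer_instance
  haveI : IsAffine (GLs k n).left := inferInstanceAs (IsAffine (Spec _))
  haveI : QuasiCompact d.left := inferInstance
  obtain ⟨C, _, p, i₀, _, _, hpi, -, hpsurj, -, hi₀⟩ := Groth.Agent.S3034.result k G (GLs k n) d (by
    let f : pullback d.left (η[GLs k n] : _ ⟶ GLs k n).left ⟶ Spec (CommRingCat.of k) := pullback.snd _ _
    exact (inferInstance : Flat f))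
  haveI := hi₀
  haveI := hpsurj
  haveI : IsAffine C.left := isAffine_of_isAffineHom i₀.left
  haveI : LocallyOfFiniteType C.hom := by rw [← Over.w i₀]; infer_instance
  haveI := Groth.Agent.Cartier.smooth_of_charZero (K := k) C
  haveI : AlgebraicGeometry.IsReduced C.left := OrbitTop19.isReduced_of_smooth C.hom
  haveI : ConnectedSpace C.left := hpsurj.surj.connectedSpace p.left.continuous
  have hoff : ∀ a b : Fin n, a ≠ b → DiagGL.mat i₀ a b = 0 := fun a b hab => by
    have h1 : p.left.appTop (DiagGL.mat i₀ a b) = 0 := by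
      rw [← Matrix.map_apply (f := p.left.appTop), ← DiagGL.mat_comp, hpi, hd, Matrix.diagonal_apply_ne _ hab]
    refine (basicOpen_eq_bot_iff _).1 (eq_bot_iff.2 fun z hz => ?_)
    obtain ⟨w, rfl⟩ := hpsurj.surj z
    have : w ∈ G.left.basicOpen (p.left.appTop (DiagGL.mat i₀ a b)) := by
      rw [← Scheme.preimage_basicOpen_top]; exact hz
    rw [h1, Scheme.basicOpen_zero] at this
    exact this
  let T := (mtx i₀).range
  have hTP : ∀ t ∈ T, (((1 : GL (Fin n) k) * t * 1⁻¹ : GL (Fin n) k) : Matrix (Fin n) (Fin n) k).IsDiag := by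
    rintro _ ⟨x, rfl⟩
    rw [inv_one, _root_.mul_one, _root_.one_mul, mtx_apply, coe_mtxFn]
    intro a b hab
    simp only [mtxMat, DiagGL.mat_comp, Matrix.map_apply, hoff a b hab, map_zero]
  obtain ⟨σ, _, dd, Ch, s, hs, -, hsc, hsr⟩ := exists_torus_subgroup (𝟙 (GLs k n)) (T := T)
    (fun g _ => by
      obtain ⟨x, hx⟩ := mtxFn_surjective g
      exact ⟨x, hx⟩)
    (isClosed_range_mtx i₀) (isPreirreducible_range_mtx' i₀) 1 hTP
  haveI := hs
  haveI := hsc
  haveI : IsAffine σ.left := isAffine_of_chars Ch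
  haveI : Smooth σ.hom := smooth_of_chars Ch
  simp only [Category.comp_id] at hsr
  obtain ⟨f, hf, hfm⟩ := exists_lift_of_range_le (𝟙 (GLs k n)) i₀ s (by simp only [Category.comp_id, hsr]; exact le_rfl)
  obtain ⟨g, hg, -⟩ := exists_lift_of_range_le (𝟙 (GLs k n)) s i₀ (by simp only [Category.comp_id, hsr]; exact le_rfl)
  haveI := hfm
  haveI : Mono s := (Over.forget _).mono_of_mono_map (show Mono s.left from inferInstance)
  have hgf : g ≫ f = 𝟙 σ := (cancel_mono s).1 (by rw [Category.assoc, hf, hg, Category.id_comp])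
  haveI : Surjective f.left := ⟨fun z => ⟨g.left z, by
    rw [← Scheme.Hom.comp_apply, ← Over.comp_left, hgf]; rfl⟩⟩
  haveI : Surjective (p ≫ f).left := by rw [Over.comp_left]; infer_instance
  refine special_of_surjective (p ≫ f) (special_of_chars Ch) fun N _ i _ _ _ _ hi => ?_
  have hid : i ≫ d = 1 := by
    rw [← hpi, ← hf, ← Category.assoc p, ← Category.assoc, hi, MonObj.one_comp]
  haveI : IsClosedImmersion (i ≫ r).left := by rw [Over.comp_left]; infer_instance
  refine special_of_unitriangular ((n + 1) * (n + 1)) 0 (by omega) N (i ≫ r) fun a b hab => ?_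
  have hba : (b : ℕ) ≤ a := hab.resolve_right (Nat.not_lt_zero _)
  rcases lt_or_eq_of_le hba with h | h
  · rw [hzt i a b h, Matrix.one_apply_ne (fun e => by subst e; omega)]
  · obtain rfl : b = a := Fin.ext h
    have h1 := congrFun (congrFun (congrArg DiagGL.mat hid) b) b
    have e : DiagGL.mat (1 : N ⟶ GLs k n) = 1 := (DiagGL.matsGLn k n).one N
    rw [hdT, Matrix.diagonal_apply_eq, e] at h1
    exact h1

end Groth.Agent.SolvSpec15
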