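import Groth.Agent.Lib.GLTors15.Scheme
import Groth.Agent.Lib.GaPts.Basic
import Groth.Agent.Lib.DiagGL.Chars

/-!
Torsors under the additive group, split tori and trivial groups over a field are trivial locally for the Zariski
topology.
-/

set_option autoImplicit false
set_option linter.style.haveILetI false
set_option backward.isDefEq.respectTransparency.types false

universe u

open CategoryTheory CategoryTheory.Limits MonoidalCategory CartesianMonoidalCategory MonObj AlgebraicGeometry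
open TensorProduct
open Groth.Agent.TorsTriv25 Groth.Agent.GLTors15

noncomputable section

namespace Groth.Agent.SolvSpec15

section Split

variable {A B : Type u} [CommRing A] [CommRing B] [Algebra A B]

/-- A simply transitive action of `d`-tuples of units on points. -/
structure SplitPts (d : ℕ) (A B : Type u) [CommRing A] [CommRing B] [Algebra A B] where
  sm : ∀ (C : Type u) [CommRing C] [Algebra A C], (Fin d → Cˣ) → (B →ₐ[A] C) → (B →ₐ[A] C)
  map_sm : ∀ (C D : Type u) [CommRing C] [Algebra A C] [CommRing D] [Algebra A D] (h : C →ₐ[A] D)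
    (g : Fin d → Cˣ) (φ : B →ₐ[A] C),
    h.comp (sm C g φ) = sm D (fun i => Units.map h.toMonoidHom (g i)) (h.comp φ)
  sm_mul : ∀ (C : Type u) [CommRing C] [Algebra A C] (g g' : Fin d → Cˣ) (φ : B →ₐ[A] C),
    sm C g (sm C g' φ) = sm C (g * g') φ
  existsUnique_sm : ∀ (C : Type u) [CommRing C] [Algebra A C] (φ ψ : B →ₐ[A] C), ∃! g : Fin d → Cˣ, sm C g ψ = φ

namespace SplitPts

variable {d : ℕ} (P : SplitPts d A B)

theorem cancel {C : Type u} [CommRing C] [Algebra A C] {g g' : Fin d → Cˣ} {ψ : B →ₐ[A] C}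
    (h : P.sm C g ψ = P.sm C g' ψ) : g = g' :=
  (P.existsUnique_sm C _ ψ).unique rfl h.symm

theorem exists_equalized {D E : Type u} [CommRing D] [CommRing E] [Algebra A D] [Algebra A E]
    (φ : B →ₐ[A] D) (j0 j1 : D →ₐ[A] E) (θ : Fin d → (B ⊗[A] B)ˣ) (hθ : P.sm (B ⊗[A] B) θ q1 = q0)
    (b : Fin d → B) (hu : ∀ i, IsUnit (φ (b i))) (hb : ∀ i, q0 (b i) * (θ i : B ⊗[A] B) = q1 (b i)) :
    ∃ σ : B →ₐ[A] D, j0.comp σ = j1.comp σ := by
  refine ⟨P.sm D (fun i => (hu i).unit) φ, ?_⟩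
  let l : B ⊗[A] B →ₐ[A] E :=
    Algebra.TensorProduct.lift (j0.comp φ) (j1.comp φ) fun x y => mul_comm ((j0.comp φ) x) ((j1.comp φ) y)
  have e0 : l.comp q0 = j0.comp φ := AlgHom.ext fun x => by simp [l]
  have e1 : l.comp q1 = j1.comp φ := AlgHom.ext fun x => by simp [l]
  have hl : P.sm E (fun i => Units.map l.toMonoidHom (θ i)) (j1.comp φ) = j0.comp φ := by
    rw [← e1, ← P.map_sm, hθ, e0]
  rw [P.map_sm, P.map_sm, ← hl, P.sm_mul]
  refine congrArg (fun g => P.sm E g (j1.comp φ)) (funext fun i => Units.ext ?_)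
  show j0 (φ (b i)) * l (θ i : B ⊗[A] B) = j1 (φ (b i))
  rw [show j0 (φ (b i)) = l (q0 (b i)) from (AlgHom.congr_fun e0 (b i)).symm,
    show j1 (φ (b i)) = l (q1 (b i)) from (AlgHom.congr_fun e1 (b i)).symm, ← map_mul, hb]

include P in
theorem exists_point [Module.FaithfullyFlat A B] (p : Ideal A) [p.IsPrime] :
    ∃ f ∉ p, Nonempty (B →ₐ[A] Localization.Away f) := by
  classical
  obtain ⟨θ, hθ, -⟩ := P.existsUnique_sm (B ⊗[A] B) q0 q1
  have hδ : ∀ {C : Type u} [CommRing C] [Algebra A C] (h : B ⊗[A] B →ₐ[A] C),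
      P.sm C (fun i => Units.map h.toMonoidHom (θ i)) (h.comp q1) = h.comp q0 := fun h => by
    rw [← P.map_sm, hθ]
  have h2 : ∀ i, pair01 (θ i : B ⊗[A] B) * pair12 (θ i : B ⊗[A] B) = pair02 (θ i : B ⊗[A] B) := by
    have e01 := hδ (pair01 (A := A) (B := B))
    have e02 := hδ (pair02 (A := A) (B := B))
    have e12 := hδ (pair12 (A := A) (B := B))
    rw [pair01_q0, pair01_q1] at e01
    rw [pair02_q0, pair02_q1] at e02
    change P.sm _ (fun i => Units.map pair12.toMonoidHom (θ i)) p2 = p1 at e12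
    rw [← e12, P.sm_mul, ← e02] at e01
    exact fun i => congrArg Units.val (congrFun (P.cancel e01) i)
  have h1 : ∀ i, diagHom (θ i : B ⊗[A] B) = 1 := by
    have hd := hδ (diagHom (A := A) (B := B))
    have e0 : (diagHom (A := A) (B := B)).comp q0 = AlgHom.id A B := AlgHom.ext fun x => by simp
    have e1 : (diagHom (A := A) (B := B)).comp q1 = AlgHom.id A B := AlgHom.ext fun x => by simp
    rw [e0, e1] at hd
    let t : Fin d → Bˣ := fun i => Units.map (diagHom (A := A) (B := B)).toMonoidHom (θ i)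
    have e : t * t = t := by
      refine P.cancel (ψ := AlgHom.id A B) ?_
      rw [← P.sm_mul, hd, hd]
    exact fun i => congrArg Units.val (congrFun (mul_eq_left.1 e) i)
  choose f hf b b' hb hbb' using fun i => exists_local_coboundary (θ i) (h2 i) (h1 i) p
  refine ⟨∏ i, f i, fun h => ?_, ?_⟩
  · obtain ⟨i, -, hi⟩ := (Ideal.IsPrime.prod_mem_iff).1 h
    exact hf i hi
  let C := Localization.Away (∏ i, f i)
  let D := C ⊗[A] B
  let φ : B →ₐ[A] D := Algebra.TensorProduct.includeRight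
  have hu : ∀ i, IsUnit (φ (b i)) := fun i => by
    have hfi : IsUnit (algebraMap A C (f i)) :=
      isUnit_of_dvd_unit (map_dvd _ (Finset.dvd_prod_of_mem f (Finset.mem_univ i)))
        (IsLocalization.Away.algebraMap_isUnit _)
    have : IsUnit (φ (b i) * φ (b' i)) := by
      rw [← map_mul, hbb', AlgHom.commutes, IsScalarTower.algebraMap_apply A C D]
      exact hfi.map _
    exact isUnit_of_mul_isUnit_left this
  obtain ⟨σ, hσ⟩ := P.exists_equalized (E := D ⊗[C] D) φ
    ((Algebra.TensorProduct.includeLeft : D →ₐ[C] D ⊗[C] D).restrictScalars A)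
    ((Algebra.TensorProduct.includeRight : D →ₐ[C] D ⊗[C] D).restrictScalars A) θ hθ b hu hb
  exact exists_point_of_eq (C := C) σ hσ

end SplitPts

end Split

section Scheme

variable {k : Type u} [Field k] {G X Y : Over (Spec (CommRingCat.of k))} [GrpObj G] {φ : X ⟶ Y}

/-- The group of points acts simply transitively on the points of a torsor over an affine open. -/
theorem exists_sm (a : AlgGrp.Action G X) (hcart : IsPullback a.act (snd G X) φ φ)
    {U : Y.left.Opens} (hU : IsAffineOpen U) (hW : IsAffineOpen ((Over.mk φ.left).hom ⁻¹ᵁ U))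
    [Algebra Γ(Y.left, U) Γ((Over.mk φ.left).left, (Over.mk φ.left).hom ⁻¹ᵁ U)]
    (halg : algebraMap Γ(Y.left, U) Γ((Over.mk φ.left).left, (Over.mk φ.left).hom ⁻¹ᵁ U) =
      ((Over.mk φ.left).hom.appLE U ((Over.mk φ.left).hom ⁻¹ᵁ U) le_rfl).hom) :
    ∃ sm : ∀ (C : Type u) [CommRing C] [Algebra Γ(Y.left, U) C], (toK (tC hU C) ⟶ G) →
        (Γ((Over.mk φ.left).left, (Over.mk φ.left).hom ⁻¹ᵁ U) →ₐ[Γ(Y.left, U)] C) →
        (Γ((Over.mk φ.left).left, (Over.mk φ.left).hom ⁻¹ᵁ U) →ₐ[Γ(Y.left, U)] C),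
      (∀ (C D : Type u) [CommRing C] [Algebra Γ(Y.left, U) C] [CommRing D] [Algebra Γ(Y.left, U) D]
        (h : C →ₐ[Γ(Y.left, U)] D) z ψ,
          h.comp (sm C z ψ) = sm D ((Over.map Y.hom).map (tMap hU h) ≫ z) (h.comp ψ)) ∧
      (∀ (C : Type u) [CommRing C] [Algebra Γ(Y.left, U) C] z z' ψ, sm C z (sm C z' ψ) = sm C (z * z') ψ) ∧
      (∀ (C : Type u) [CommRing C] [Algebra Γ(Y.left, U) C] ψ₁ ψ₂, ∃! z, sm C z ψ₂ = ψ₁) := by
  have hact : ∀ {T : Over (Spec (CommRingCat.of k))} (z : T ⟶ G) (x : T ⟶ X),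
      (lift z x ≫ a.act) ≫ φ = x ≫ φ := fun z x => by
    rw [Category.assoc, hcart.w, lift_snd_assoc]
  have hsm : ∀ (C : Type u) [CommRing C] [Algebra Γ(Y.left, U) C] (z : toK (tC hU C) ⟶ G)
      (ψ : Γ((Over.mk φ.left).left, (Over.mk φ.left).hom ⁻¹ᵁ U) →ₐ[Γ(Y.left, U)] C),
      ∃ ψ' : Γ((Over.mk φ.left).left, (Over.mk φ.left).hom ⁻¹ᵁ U) →ₐ[Γ(Y.left, U)] C,
        toX (pt hU hW rfl halg ψ') = lift z (toX (pt hU hW rfl halg ψ)) ≫ a.act := fun C _ _ z ψ => by
    obtain ⟨x, hx⟩ := exists_toX (φ := φ) (lift z (toX (pt hU hW rfl halg ψ)) ≫ a.act)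
      (by rw [hact, toX_φ])
    obtain ⟨ψ', rfl⟩ := pt_surjective hU hW rfl halg x
    exact ⟨ψ', hx⟩
  choose sm hsm using hsm
  have hinj : ∀ (C : Type u) [CommRing C] [Algebra Γ(Y.left, U) C],
      Function.Injective (fun ψ => toX (pt hU hW rfl halg (C := C) ψ)) := fun C _ _ =>
    toX_injective.comp (pt_injective hU hW rfl halg)
  refine ⟨sm, fun C D _ _ _ _ h z ψ => ?_, fun C _ _ z z' ψ => ?_, fun C _ _ ψ₁ ψ₂ => ?_⟩
  · apply hinj D
    show toX _ = toX _
    rw [← pt_comp, toX_comp, hsm, hsm, ← pt_comp, toX_comp, comp_lift_assoc]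
  · apply hinj C
    show toX _ = toX _
    rw [hsm, hsm, hsm, AlgGrp.Action.lift_mul_act]
  · let y₁ := toX (pt hU hW rfl halg ψ₁)
    let y₂ := toX (pt hU hW rfl halg ψ₂)
    have hy : y₁ ≫ φ = y₂ ≫ φ := by rw [toX_φ, toX_φ]
    let z : toK (tC hU C) ⟶ G := hcart.lift y₁ y₂ hy ≫ fst _ _
    have hz : lift z y₂ ≫ a.act = y₁ := by
      have : lift z y₂ = hcart.lift y₁ y₂ hy := CartesianMonoidalCategory.hom_ext _ _ (lift_fst _ _)
        ((lift_snd _ _).trans (hcart.lift_snd _ _ _).symm)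
      rw [this]
      exact hcart.lift_fst _ _ _
    refine ⟨z, ?_, fun z' hz' => ?_⟩
    · apply hinj C
      show toX _ = toX _
      rw [hsm]
      exact hz
    · have h' : lift z' y₂ ≫ a.act = y₁ := by rw [← hsm, hz']
      have : lift z' y₂ = lift z y₂ := hcart.hom_ext (by rw [h', hz]) (by simp)
      simpa using congrArg (· ≫ fst _ X) this

/-- Zariski local triviality from points over localisations. -/
theorem isLocallyTrivialFor_of_exists_point [IsAffine G.left] {a : AlgGrp.Action G X}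
    (hcart : IsPullback a.act (snd G X) φ φ)
    (hloc : NonAbH1.IsLocallyTrivialFor Scheme.fpqcPrecoverage (Over.mk φ.left : Over Y.left))
    (H : ∀ (U : Y.left.Opens) (hU : IsAffineOpen U) (hW : IsAffineOpen ((Over.mk φ.left).hom ⁻¹ᵁ U))
      [Algebra Γ(Y.left, U) Γ((Over.mk φ.left).left, (Over.mk φ.left).hom ⁻¹ᵁ U)]
      [Module.FaithfullyFlat Γ(Y.left, U) Γ((Over.mk φ.left).left, (Over.mk φ.left).hom ⁻¹ᵁ U)]
      (halg : algebraMap Γ(Y.left, U) Γ((Over.mk φ.left).left, (Over.mk φ.left).hom ⁻¹ᵁ U) =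
        ((Over.mk φ.left).hom.appLE U ((Over.mk φ.left).hom ⁻¹ᵁ U) le_rfl).hom)
      (p : Ideal Γ(Y.left, U)) [p.IsPrime],
      ∃ f ∉ p, Nonempty (Γ((Over.mk φ.left).left, (Over.mk φ.left).hom ⁻¹ᵁ U) →ₐ[Γ(Y.left, U)]
        Localization.Away f)) :
    NonAbH1.IsLocallyTrivialFor Scheme.zariskiPrecoverage (Over.mk φ.left : Over Y.left) := by
  obtain ⟨haff, hflat, hsurj⟩ := GITQuot.isAffineHom_flat_surjective hcart hloc
  have key : ∀ s : Y.left, ∃ (T : Scheme.{u}) (g : T ⟶ Y.left), IsOpenImmersion g ∧ s ∈ Set.range g ∧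
      NonAbH1.HasSectionOver (Over.mk φ.left) g := fun s => by
    obtain ⟨U, hU, hsU, -⟩ := exists_isAffineOpen_mem_and_subset (X := Y.left) (x := s) (U := ⊤) trivial
    haveI : IsAffineHom (Over.mk φ.left).hom := haff
    have hW : IsAffineOpen ((Over.mk φ.left).hom ⁻¹ᵁ U) := hU.preimage _
    have hff : ((Over.mk φ.left).hom.appLE U ((Over.mk φ.left).hom ⁻¹ᵁ U) le_rfl).hom.FaithfullyFlat := by
      rw [RingHom.FaithfullyFlat.iff_flat_and_comap_surjective]
      refine ⟨HasRingHomProperty.appLE @Flat φ.left hflat ⟨U, hU⟩ ⟨_, hW⟩ le_rfl, fun p => ?_⟩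
      obtain ⟨x, hx⟩ := hsurj.surj (hU.fromSpec p)
      have hxW : x ∈ φ.left ⁻¹ᵁ U := by
        show φ.left x ∈ (U : Set Y.left)
        rw [hx, ← hU.range_fromSpec]; exact ⟨p, rfl⟩
      refine ⟨hW.primeIdealOf ⟨x, hxW⟩, hU.fromSpec.isOpenEmbedding.injective ?_⟩
      show (Spec.map (φ.left.appLE U (φ.left ⁻¹ᵁ U) le_rfl) ≫ hU.fromSpec) _ = _
      erw [hU.SpecMap_appLE_fromSpec φ.left hW le_rfl, Scheme.Hom.comp_apply]
      exact (congrArg φ.left (hW.fromSpec_primeIdealOf ⟨x, hxW⟩)).trans hx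
    algebraize [((Over.mk φ.left).hom.appLE U ((Over.mk φ.left).hom ⁻¹ᵁ U) le_rfl).hom]
    haveI : Module.FaithfullyFlat Γ(Y.left, U) Γ((Over.mk φ.left).left, (Over.mk φ.left).hom ⁻¹ᵁ U) := hff
    obtain ⟨c, hc, ⟨ψ⟩⟩ := H U hU hW rfl (hU.primeIdealOf ⟨s, hsU⟩).asIdeal
    haveI : IsOpenImmersion (Spec.map (CommRingCat.ofHom (algebraMap Γ(Y.left, U) (Localization.Away c)))) :=
      IsOpenImmersion.of_isLocalization c
    refine ⟨_, Spec.map (CommRingCat.ofHom (algebraMap Γ(Y.left, U) (Localization.Away c))) ≫ hU.fromSpec,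
      inferInstance, ?_, TorsTriv25.hasSectionOver_of_point hU hW rfl ψ⟩
    obtain ⟨z, hz⟩ : hU.primeIdealOf ⟨s, hsU⟩ ∈
        Set.range (PrimeSpectrum.comap (algebraMap Γ(Y.left, U) (Localization.Away c))) := by
      rw [PrimeSpectrum.localization_away_comap_range _ c]; exact hc
    refine ⟨z, ?_⟩
    show hU.fromSpec (PrimeSpectrum.comap (algebraMap Γ(Y.left, U) (Localization.Away c)) z) = s
    rw [hz]
    exact hU.fromSpec_primeIdealOf ⟨s, hsU⟩
  choose T g hg hsg hsec using key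
  refine ⟨Presieve.ofArrows T g, ?_, fun _ _ hR => ?_⟩
  · exact (Scheme.ofArrows_mem_precoverage_iff @IsOpenImmersion).2 ⟨fun x => ⟨x, hsg x⟩, hg⟩
  · obtain ⟨i⟩ := hR
    exact hsec i

end Scheme

/-- Every torsor under `G` is trivial locally for the Zariski topology. -/
def Special (k : Type u) [Field k] (G : Over (Spec (CommRingCat.of k))) [GrpObj G] : Prop :=
  ∀ (X Y : Over (Spec (CommRingCat.of k))) (a : AlgGrp.Action G X) (φ : X ⟶ Y),
    IsPullback a.act (snd G X) φ φ →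
    NonAbH1.IsLocallyTrivialFor Scheme.fpqcPrecoverage (Over.mk φ.left : Over Y.left) →
    NonAbH1.IsLocallyTrivialFor Scheme.zariskiPrecoverage (Over.mk φ.left : Over Y.left)

variable {k : Type u} [Field k]

theorem special_of_subsingleton (G : Over (Spec (CommRingCat.of k))) [GrpObj G] [IsAffine G.left]
    (h : ∀ (T : Over (Spec (CommRingCat.of k))) (x : T ⟶ G), x = 1) : Special k G := by
  intro X Y a φ hcart hloc
  refine isLocallyTrivialFor_of_exists_point hcart hloc fun U hU hW _ _ halg p hp => ?_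
  obtain ⟨sm, -, -, hex⟩ := exists_sm a hcart hU hW halg
  refine ⟨1, fun h1 => hp.ne_top ((Ideal.eq_top_iff_one p).2 h1), exists_point_of_eq
    (D := Localization.Away (1 : Γ(Y.left, U)) ⊗[Γ(Y.left, U)] _) Algebra.TensorProduct.includeRight ?_⟩
  have key : ∀ (E : Type u) [CommRing E] [Algebra Γ(Y.left, U) E]
      (ψ₁ ψ₂ : Γ((Over.mk φ.left).left, (Over.mk φ.left).hom ⁻¹ᵁ U) →ₐ[Γ(Y.left, U)] E), ψ₁ = ψ₂ := by
    intro E _ _ ψ₁ ψ₂
    obtain ⟨z, hz, -⟩ := hex E ψ₁ ψ₂
    obtain ⟨z', hz', -⟩ := hex E ψ₂ ψ₂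
    exact hz.symm.trans (by rw [h _ z, ← h _ z']; exact hz')
  exact key _ _ _

theorem special_Ga : Special k (Red.Ga (Spec (CommRingCat.of k))) := by
  intro X Y a φ hcart hloc
  haveI : IsAffineHom (Red.Ga (Spec (CommRingCat.of k))).hom :=
    MorphismProperty.pullback_snd (P := @IsAffineHom) _ _ (inferInstanceAs (IsAffineHom (Spec.map _)))
  haveI : IsAffine (Red.Ga (Spec (CommRingCat.of k))).left :=
    isAffine_of_isAffineHom (Red.Ga (Spec (CommRingCat.of k))).hom
  refine isLocallyTrivialFor_of_exists_point hcart hloc fun U hU hW _ _ halg p hp => ?_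
  obtain ⟨sm, hnat, hmul, hex⟩ := exists_sm a hcart hU hW halg
  let gp : ∀ (C : Type u) [CommRing C] [Algebra Γ(Y.left, U) C], C →
      (toK (tC hU C) ⟶ Red.Ga (Spec (CommRingCat.of k))) := fun C _ _ c => GaPts.ptOfFn (glob hU C c)
  have hgp : ∀ (C : Type u) [CommRing C] [Algebra Γ(Y.left, U) C], Function.Bijective (gp C) := fun C _ _ => by
    refine ⟨fun c c' h => (glob_bijective hU C).1 ?_, fun z => ?_⟩
    · have h' : Red.gaFn (gp C c) = Red.gaFn (gp C c') := congrArg (fun z => Red.gaFn z) h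
      simp only [gp, GaPts.gaFn_ptOfFn] at h'
      exact h'
    · obtain ⟨c, hc⟩ := (glob_bijective hU C).2 (show Γ((toK (tC hU C)).left, ⊤) from Red.gaFn z)
      exact ⟨c, GaPts.gaFn_injective (by
        show Red.gaFn _ = Red.gaFn z
        exact (GaPts.gaFn_ptOfFn _).trans hc)⟩
  let P : AddPts Γ(Y.left, U) Γ((Over.mk φ.left).left, (Over.mk φ.left).hom ⁻¹ᵁ U) :=
    { sm := fun C _ _ c ψ => sm C (gp C c) ψ
      map_sm := fun C D _ _ _ _ h c ψ => by
        rw [hnat]
        congr 1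
        refine (GaPts.ptOfFn_comp _ _).trans (congrArg GaPts.ptOfFn ?_)
        exact appTop_glob hU h c
      sm_add := fun C _ _ c c' ψ => by
        rw [hmul]
        congr 1
        refine (GaPts.ptOfFn_add _ _).symm.trans (congrArg GaPts.ptOfFn ?_)
        exact ((glob hU C).map_add c c').symm
      existsUnique_sm := fun C _ _ ψ₁ ψ₂ => by
        obtain ⟨z, hz, hu⟩ := hex C ψ₁ ψ₂
        obtain ⟨c, rfl⟩ := (hgp C).2 z
        exact ⟨c, hz, fun c' hc' => (hgp C).1 (hu _ hc')⟩ }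
  obtain ⟨ψ⟩ := P.exists_point
  exact ⟨1, fun h1 => hp.ne_top ((Ideal.eq_top_iff_one p).2 h1),
    ⟨(IsScalarTower.toAlgHom Γ(Y.left, U) Γ(Y.left, U) (Localization.Away (1 : Γ(Y.left, U)))).comp ψ⟩⟩

theorem special_of_chars {d : ℕ} {G : Over (Spec (CommRingCat.of k))} [GrpObj G] [IsAffine G.left]
    (Ch : DiagGL.Chars (Fin d → ℤ) G) : Special k G := by
  intro X Y a φ hcart hloc
  refine isLocallyTrivialFor_of_exists_point hcart hloc fun U hU hW _ _ halg p hp => ?_
  obtain ⟨sm, hnat, hmul, hex⟩ := exists_sm a hcart hU hW halg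
  let co : ∀ {T : Over (Spec (CommRingCat.of k))}, (T ⟶ G) → Fin d → Γ(T.left, ⊤)ˣ := fun z i =>
    (Ch.ch z).toHomUnits (Multiplicative.ofAdd (Pi.single i 1))
  have hco : ∀ {T : Over (Spec (CommRingCat.of k))} (z : T ⟶ G) i,
      (co z i : Γ(T.left, ⊤)) = Ch.ch z (Multiplicative.ofAdd (Pi.single i 1)) := fun _ _ => rfl
  have hbij : ∀ T : Over (Spec (CommRingCat.of k)), Function.Bijective (co (T := T)) := fun T => by
    refine ⟨fun z z' h => Ch.inj fun m => ?_, fun g => ?_⟩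
    · have e : MonoidHom.toAdditiveRight (Ch.ch z).toHomUnits = MonoidHom.toAdditiveRight (Ch.ch z').toHomUnits :=
        AddMonoidHom.functions_ext' _ _ _ fun i => AddMonoidHom.ext_int (congrArg Additive.ofMul (congrFun h i))
      exact congrArg Units.val (congrArg Additive.toMul (DFunLike.congr_fun e (Multiplicative.toAdd m)))
    · let L : (Fin d → ℤ) →ₗ[ℤ] Additive Γ(T.left, ⊤)ˣ :=
        (Pi.basisFun ℤ (Fin d)).constr ℤ fun i => Additive.ofMul (g i)
      obtain ⟨z, hz⟩ := Ch.surj (T := T) ((Units.coeHom _).comp (AddMonoidHom.toMultiplicativeLeft L.toAddMonoidHom))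
      refine ⟨z, funext fun i => Units.ext ?_⟩
      rw [hco, hz]
      show ((Additive.toMul (L (Pi.single i 1)) : Γ(T.left, ⊤)ˣ) : Γ(T.left, ⊤)) = _
      rw [← Pi.basisFun_apply, Module.Basis.constr_basis, toMul_ofMul]
  let gp : ∀ (C : Type u) [CommRing C] [Algebra Γ(Y.left, U) C], (Fin d → Cˣ) → (toK (tC hU C) ⟶ G) :=
    fun C _ _ g => (Equiv.ofBijective _ (hbij (toK (tC hU C)))).symm fun i => globUnits hU C (g i)
  have hgp : ∀ (C : Type u) [CommRing C] [Algebra Γ(Y.left, U) C] (g : Fin d → Cˣ),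
      co (gp C g) = fun i => globUnits hU C (g i) := fun C _ _ g =>
    (Equiv.ofBijective _ (hbij (toK (tC hU C)))).apply_symm_apply _
  let P : SplitPts d Γ(Y.left, U) Γ((Over.mk φ.left).left, (Over.mk φ.left).hom ⁻¹ᵁ U) :=
    { sm := fun C _ _ g ψ => sm C (gp C g) ψ
      map_sm := fun C D _ _ _ _ h g ψ => by
        rw [hnat]
        congr 1
        refine (hbij _).1 (funext fun i => Units.ext ?_)
        rw [hgp, hco, Ch.nat, ← hco, hgp]
        exact appTop_glob hU h (g i)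
      sm_mul := fun C _ _ g g' ψ => by
        rw [hmul]
        congr 1
        refine (hbij _).1 (funext fun i => Units.ext ?_)
        rw [hco, Ch.mul, ← hco, ← hco, hgp, hgp, hgp]
        simp only [Pi.mul_apply, map_mul]
        rfl
      existsUnique_sm := fun C _ _ ψ₁ ψ₂ => by
        obtain ⟨z, hz, hu⟩ := hex C ψ₁ ψ₂
        let g : Fin d → Cˣ := fun i => (globUnits hU C).symm (co z i)
        have hg : gp C g = z := (hbij _).1 (by rw [hgp]; exact funext fun i => (globUnits hU C).apply_symm_apply _)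
        refine ⟨g, by simpa only [hg] using hz, fun g' hg' => funext fun i => ?_⟩
        have h1 := congrArg (fun z => co z i) (hu _ hg')
        simp only [hgp] at h1
        show g' i = (globUnits hU C).symm (co z i)
        rw [← h1, MulEquiv.symm_apply_apply] }
  exact P.exists_point p

end Groth.Agent.SolvSpec15
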